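import Mathlib.GroupTheory.GroupAction.Quotient
import Mathlib.GroupTheory.Perm.Cycle.Type
import Mathlib.SetTheory.Cardinal.Finite
import Mathlib.Algebra.Group.End
import Cfsg.Prelude.Def_Involutions
import Cfsg.Agent.Lib.Invol.Dihedral

/-!
# Involutions acting on the cosets of a strongly embedded subgroup
-/

set_option autoImplicit false

namespace CfsgLib.SEmb

open MulAction

variable {G : Type*} [Group G] {H : Subgroup G}

theorem smul_one_eq_iff (g : G) :
    g • (QuotientGroup.mk 1 : G ⧸ H) = QuotientGroup.mk 1 ↔ g ∈ H := by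
  rw [← mem_stabilizer_iff, stabilizer_quotient]

theorem smul_mk_eq_iff (g a : G) :
    g • (QuotientGroup.mk a : G ⧸ H) = QuotientGroup.mk a ↔ a⁻¹ * g * a ∈ H := by
  rw [Quotient.smul_mk, QuotientGroup.eq, ← inv_mem_iff]
  simp [smul_eq_mul, mul_assoc]

theorem smul_comm_fix {t : G} {x : G ⧸ H} (h : t • x = x) {g : G} (hc : Commute g t) :
    t • (g • x) = g • x := by
  rw [smul_smul, ← hc.eq, ← smul_smul, h]

theorem smul_smul_invol {i : G} (hi : orderOf i = 2) (x : G ⧸ H) : i • i • x = x := by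
  rw [smul_smul, Invol.mul_self_eq_one hi, one_smul]

theorem smul_invol_eq_iff {i : G} (hi : orderOf i = 2) (x y : G ⧸ H) :
    i • x = y ↔ i • y = x := by
  constructor <;> rintro rfl <;> rw [smul_smul_invol hi]

/-- The involutions mapping `x` to `y`. -/
abbrev Swap (x y : G ⧸ H) : Type _ := {i : G // orderOf i = 2 ∧ i • x = y}

variable [Finite G] (hH : Cfsg.IsStronglyEmbedded H)
include hH

theorem point_unique {t : G} (ht : orderOf t = 2) {x y : G ⧸ H} (hx : t • x = x)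
    (hy : t • y = y) : x = y := by
  induction x using QuotientGroup.induction_on with
  | _ a =>
  induction y using QuotientGroup.induction_on with
  | _ b =>
  rw [smul_mk_eq_iff] at hx hy
  by_contra hne
  have hc : a⁻¹ * b ∉ H := fun h => hne (QuotientGroup.eq.mpr h)
  have hs : a⁻¹ * t * a ∈ H ⊓ H.map (MulAut.conj (a⁻¹ * b)).toMonoidHom :=
    ⟨hx, ⟨b⁻¹ * t * b, hy, by simp [mul_assoc]⟩⟩
  refine Nat.not_even_iff_odd.mpr (hH.2.2 _ hc) ?_
  have h2 : orderOf (⟨_, hs⟩ : ↥(H ⊓ H.map (MulAut.conj (a⁻¹ * b)).toMonoidHom)) = 2 := by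
    rw [Subgroup.orderOf_mk]
    have := Invol.orderOf_conj a⁻¹ t
    rw [inv_inv] at this
    rw [this, ht]
  exact even_iff_two_dvd.mpr (h2 ▸ orderOf_dvd_natCard _)

theorem fix_of_commute {t : G} (ht : orderOf t = 2) {x : G ⧸ H} (hx : t • x = x) {g : G}
    (hc : Commute g t) : g • x = x :=
  point_unique hH ht (smul_comm_fix hx hc) hx

theorem fix_of_conj {t g : G} (ht : orderOf t = 2) {x y : G ⧸ H} (hx : t • x = x)
    (hy : (g * t * g⁻¹) • y = y) : g • x = y := by
  refine point_unique hH (t := g * t * g⁻¹) (by rw [Invol.orderOf_conj, ht]) ?_ hy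
  rw [smul_smul, inv_mul_cancel_right, ← smul_smul, hx]

theorem exists_invol_fix (x : G ⧸ H) : ∃ t : G, orderOf t = 2 ∧ t • x = x := by
  induction x using QuotientGroup.induction_on with
  | _ a =>
  obtain ⟨⟨t, htH⟩, ht⟩ := exists_prime_orderOf_dvd_card' 2 (even_iff_two_dvd.mp hH.2.1)
  rw [Subgroup.orderOf_mk] at ht
  refine ⟨a * t * a⁻¹, by rw [Invol.orderOf_conj, ht], ?_⟩
  rw [smul_mk_eq_iff]
  simpa [mul_assoc] using htH

omit hH in
theorem exists_half_conj {t u : G} (ht : orderOf t = 2) (hu : orderOf u = 2) :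
    (∃ w : G, w * t * w⁻¹ = u ∧ w * w = 1) ∨
      ∃ s : G, orderOf s = 2 ∧ Commute s t ∧ Commute s u := by
  have ht2 := Invol.mul_self_eq_one ht
  have hu2 := Invol.mul_self_eq_one hu
  have hinv := Invol.conj_prod ht2 hu2
  rcases Nat.even_or_odd (orderOf (t * u)) with ⟨k, hk⟩ | ⟨k, hk⟩
  · right
    have hpos := orderOf_pos (t * u)
    have hs : orderOf ((t * u) ^ k) = 2 := by
      rw [orderOf_pow_of_dvd (by omega) ⟨2, by omega⟩, hk,
        show k + k = 2 * k by omega, Nat.mul_div_cancel _ (by omega)]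
    have hst : Commute ((t * u) ^ k) t := by
      have h := Invol.conj_zpow_of_inverts hinv (k : ℤ)
      rw [zpow_natCast, zpow_neg, zpow_natCast, Invol.inv_eq_self hs] at h
      rw [Invol.inv_eq_self ht] at h
      calc (t * u) ^ k * t = t * (t * u) ^ k * t * t := by rw [h]
        _ = t * (t * u) ^ k := by rw [mul_assoc _ t t, ht2, mul_one]
    refine ⟨(t * u) ^ k, hs, hst, ?_⟩
    have h2 := hst.mul_right ((Commute.refl (t * u)).pow_left k)
    rwa [← mul_assoc, ht2, one_mul] at h2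
  · left
    refine ⟨(t * u) ^ k * t, ?_, ?_⟩
    · have h := Invol.conj_zpow_of_inverts hinv (k : ℤ)
      have e1 : ((t * u) ^ k * t) * t * ((t * u) ^ k * t)⁻¹ =
          (t * u) ^ (k : ℤ) * (t * ((t * u) ^ (k : ℤ))⁻¹ * t⁻¹) * t := by
        simp only [zpow_natCast, mul_inv_rev, Invol.inv_eq_self ht, mul_assoc, ht2, mul_one]
      rw [e1, ← zpow_neg, Invol.conj_zpow_of_inverts hinv, neg_neg, ← zpow_add]
      have hp : (t * u) ^ ((k : ℤ) + k) = (t * u)⁻¹ := by
        rw [eq_inv_iff_mul_eq_one, ← zpow_add_one,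
          show (k : ℤ) + k + 1 = ((2 * k + 1 : ℕ) : ℤ) by push_cast; ring, zpow_natCast, ← hk,
          pow_orderOf_eq_one]
      rw [hp, mul_inv_rev, Invol.inv_eq_self hu, Invol.inv_eq_self ht, mul_assoc, ht2, mul_one]
    · have h := Invol.conj_zpow_of_inverts hinv (k : ℤ)
      rw [zpow_natCast, zpow_neg, zpow_natCast, Invol.inv_eq_self ht] at h
      rw [mul_assoc, ← mul_assoc t, h, mul_inv_cancel]

theorem exists_fix {u : G} (hu : orderOf u = 2) : ∃ x : G ⧸ H, u • x = x := by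
  obtain ⟨t, ht, htx⟩ := exists_invol_fix hH (QuotientGroup.mk 1)
  rcases exists_half_conj ht hu with ⟨w, hw, -⟩ | ⟨s, hs, hst, hsu⟩
  · refine ⟨w • (QuotientGroup.mk 1 : G ⧸ H), ?_⟩
    rw [← hw, smul_smul, inv_mul_cancel_right, ← smul_smul, htx]
  · exact ⟨_, fix_of_commute hH hs (fix_of_commute hH ht htx hst) hsu.symm⟩

theorem exists_swap {t u : G} (ht : orderOf t = 2) (hu : orderOf u = 2) {x y : G ⧸ H}
    (hx : t • x = x) (hy : u • y = y) (hxy : x ≠ y) :
    ∃ w : G, (orderOf w = 2 ∧ w • x = y) ∧ w * t * w⁻¹ = u := by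
  rcases exists_half_conj ht hu with ⟨w, hw, hw2⟩ | ⟨s, hs, hst, hsu⟩
  · have hwx : w • x = y := fix_of_conj hH ht hx (hw.symm ▸ hy)
    refine ⟨w, ⟨Invol.orderOf_eq_two ?_ hw2, hwx⟩, hw⟩
    rintro rfl
    exact hxy (by simpa using hwx)
  · exact absurd (point_unique hH hs (fix_of_commute hH ht hx hst) (fix_of_commute hH hu hy hsu))
      hxy

theorem card_swap_self_eq (x y : G ⧸ H) : Nat.card (Swap x x) = Nat.card (Swap y y) := by
  obtain ⟨g, rfl⟩ := exists_smul_eq G x y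
  refine Nat.card_congr ((MulAut.conj g).toEquiv.subtypeEquiv fun t => ?_)
  simp only [MulEquiv.toEquiv_eq_coe, EquivLike.coe_coe, MulAut.conj_apply]
  rw [Invol.orderOf_conj, smul_smul, inv_mul_cancel_right, ← smul_smul, smul_left_cancel_iff]

theorem le_card_swap (x y : G ⧸ H) : Nat.card (Swap x x) ≤ Nat.card (Swap x y) := by
  rcases eq_or_ne x y with rfl | hxy
  · exact le_rfl
  · obtain ⟨u, hu, huy⟩ := exists_invol_fix hH y
    choose w hw hwc using fun t : Swap x x => exists_swap hH t.2.1 hu t.2.2 huy hxy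
    refine Nat.card_le_card_of_injective (fun t => (⟨w t, hw t⟩ : Swap x y)) fun a b hab => ?_
    have hwe : w a = w b := congrArg Subtype.val hab
    have h := (hwc a).trans (hwc b).symm
    rw [hwe] at h
    exact Subtype.ext (mul_left_cancel (mul_right_cancel h))

theorem card_swap (x y : G ⧸ H) : Nat.card (Swap x y) = Nat.card (Swap x x) := by
  classical
  let e1 : {i : G // orderOf i = 2} ≃ Σ y : G ⧸ H, Swap x y :=
    { toFun := fun i => ⟨i.1 • x, i.1, i.2, rfl⟩
      invFun := fun p => ⟨p.2.1, p.2.2.1⟩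
      left_inv := fun i => rfl
      right_inv := fun p => by obtain ⟨y, i, h2, rfl⟩ := p; rfl }
  have e2 : Nat.card {i : G // orderOf i = 2} = Nat.card (Σ z : G ⧸ H, Swap z z) := by
    refine (Nat.card_congr (Equiv.ofBijective
      (fun p : Σ z : G ⧸ H, Swap z z => (⟨p.2.1, p.2.2.1⟩ : {i : G // orderOf i = 2})) ⟨?_, ?_⟩)).symm
    · rintro ⟨z, i, hi, hz⟩ ⟨z', i', hi', hz'⟩ h
      obtain rfl : i = i' := congrArg Subtype.val h
      obtain rfl := point_unique hH hi hz hz'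
      rfl
    · rintro ⟨i, hi⟩
      obtain ⟨z, hz⟩ := exists_fix hH hi
      exact ⟨⟨z, i, hi, hz⟩, rfl⟩
  have : Fintype (G ⧸ H) := Fintype.ofFinite _
  rw [Nat.card_congr e1, Nat.card_sigma, Nat.card_sigma] at e2
  have e3 : ∑ z : G ⧸ H, Nat.card (Swap z z) = ∑ _z : G ⧸ H, Nat.card (Swap x x) :=
    Finset.sum_congr rfl fun z _ => card_swap_self_eq hH z x
  rw [e3] at e2
  exact ((Finset.sum_eq_sum_iff_of_le fun z _ => le_card_swap hH x z).mp e2.symm y
    (Finset.mem_univ y)).symm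

theorem exists_conj {a b : G} (ha : orderOf a = 2) (hb : orderOf b = 2) {x y : G ⧸ H}
    (hx : a • x = x) (hxy : x ≠ y) (hb' : b • x = x) :
    ∃ d : G, (d • x = x ∧ d • y = y) ∧ d * a * d⁻¹ = b := by
  obtain ⟨u, hu, huy⟩ := exists_invol_fix hH y
  obtain ⟨w, ⟨hw, hwx⟩, hwa⟩ := exists_swap hH ha hu hx huy hxy
  obtain ⟨w', ⟨hw', hw'x⟩, hw'b⟩ := exists_swap hH hb hu hb' huy hxy
  refine ⟨w'⁻¹ * w, ⟨?_, ?_⟩, ?_⟩
  · rw [Invol.inv_eq_self hw', ← smul_smul, hwx, ← (smul_invol_eq_iff hw' x y)]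
    exact hw'x
  · rw [Invol.inv_eq_self hw', ← smul_smul, (smul_invol_eq_iff hw x y).mp hwx, hw'x]
  · rw [← hw'b] at hwa
    calc w'⁻¹ * w * a * (w'⁻¹ * w)⁻¹ = w'⁻¹ * (w * a * w⁻¹) * w' := by simp [mul_assoc]
      _ = b := by rw [hwa]; simp [mul_assoc]

theorem isConj_invol {a b : G} (ha : orderOf a = 2) (hb : orderOf b = 2) : IsConj a b := by
  obtain ⟨x, hx⟩ := exists_fix hH ha
  obtain ⟨y, hy⟩ := exists_fix hH hb
  rw [isConj_iff]
  rcases eq_or_ne x y with rfl | hxy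
  · obtain ⟨z, hz⟩ : ∃ z : G ⧸ H, x ≠ z := by
      by_contra h
      push Not at h
      refine hH.1 ((Subgroup.eq_top_iff' H).mpr fun g => ?_)
      have : (QuotientGroup.mk 1 : G ⧸ H) = QuotientGroup.mk g := (h _).symm.trans (h _)
      simpa using QuotientGroup.eq.mp this
    obtain ⟨d, -, hd⟩ := exists_conj hH ha hb hx hz hy
    exact ⟨d, hd⟩
  · obtain ⟨w, -, hw⟩ := exists_swap hH ha hb hx hy hxy
    exact ⟨w, hw⟩

omit [Finite G] hH in
theorem mem_inter_iff (u d : G) :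
    d ∈ H ⊓ H.map (MulAut.conj u).toMonoidHom ↔
      d • (QuotientGroup.mk 1 : G ⧸ H) = QuotientGroup.mk 1 ∧
        d • (QuotientGroup.mk u : G ⧸ H) = QuotientGroup.mk u := by
  rw [smul_one_eq_iff, smul_mk_eq_iff, Subgroup.mem_inf]
  refine and_congr_right fun _ => ?_
  constructor
  · rintro ⟨y, hy, rfl⟩; simpa [mul_assoc] using hy
  · exact fun h => ⟨_, h, by simp [mul_assoc]⟩

end CfsgLib.SEmb
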