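import Mathlib.LinearAlgebra.Matrix.SpecialLinearGroup
import Mathlib.GroupTheory.GroupAction.Quotient
import Mathlib.Tactic.LinearCombination

/-!
# Recognition of `SL(2, F)` in characteristic two by its action on the projective line
-/

set_option autoImplicit false

namespace CfsgLib.SEmb.ProjLine

open Matrix

variable {F : Type*} [Field F]

/-- `v` and `w` span the same line. -/
def SameLine (v w : Fin 2 → F) : Prop := ∃ c : F, c ≠ 0 ∧ v = c • w

theorem SameLine.trans {u v w : Fin 2 → F} (h₁ : SameLine u v) (h₂ : SameLine v w) :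
    SameLine u w := by
  obtain ⟨c, hc, rfl⟩ := h₁
  obtain ⟨e, he, rfl⟩ := h₂
  exact ⟨c * e, mul_ne_zero hc he, smul_smul c e w⟩

theorem SameLine.symm {u v : Fin 2 → F} (h₁ : SameLine u v) : SameLine v u := by
  obtain ⟨c, hc, rfl⟩ := h₁
  exact ⟨c⁻¹, inv_ne_zero hc, by rw [smul_smul, inv_mul_cancel₀ hc, one_smul]⟩

theorem SameLine.mulVec {u v : Fin 2 → F} (M : Matrix (Fin 2) (Fin 2) F) (h₁ : SameLine u v) :
    SameLine (M *ᵥ u) (M *ᵥ v) := by
  obtain ⟨c, hc, rfl⟩ := h₁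
  exact ⟨c, hc, Matrix.mulVec_smul _ _ _⟩

/-- Representative vectors of the points of the line. -/
def vt : Option F → (Fin 2 → F)
  | none => ![1, 0]
  | some a => ![a, 1]

theorem eq_of_sameLine {z z' : Option F} (h : SameLine (vt z) (vt z')) : z = z' := by
  obtain ⟨c, hc, e⟩ := h
  have e0 := congrFun e 0
  have e1 := congrFun e 1
  rcases z with _ | a <;> rcases z' with _ | a' <;> simp [vt] at e0 e1
  · rfl
  · exact absurd e1 (Ne.symm hc)
  · rw [e0, ← e1, one_mul]

theorem vt_ne_zero (z : Option F) : vt z ≠ 0 := by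
  intro h
  rcases z with _ | a
  · exact one_ne_zero (congrFun h 0)
  · exact one_ne_zero (congrFun h 1)

theorem exists_vt (v : Fin 2 → F) (hv : v ≠ 0) : ∃ z : Option F, SameLine v (vt z) := by
  by_cases h1 : v 1 = 0
  · refine ⟨none, v 0, fun h0 => hv (funext (Fin.forall_fin_two.mpr ⟨h0, h1⟩)), ?_⟩
    exact funext (Fin.forall_fin_two.mpr ⟨by simp [vt], by simp [vt, h1]⟩)
  · exact ⟨some (v 0 / v 1), v 1, h1,
      funext (Fin.forall_fin_two.mpr ⟨by simp [vt, mul_div_cancel₀ _ h1], by simp [vt]⟩)⟩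

theorem inv_mulVec_mulVec (N : SpecialLinearGroup (Fin 2) F) (v : Fin 2 → F) :
    ((N⁻¹ : SpecialLinearGroup (Fin 2) F) : Matrix (Fin 2) (Fin 2) F) *ᵥ
      ((N : Matrix (Fin 2) (Fin 2) F) *ᵥ v) = v := by
  rw [Matrix.mulVec_mulVec, ← SpecialLinearGroup.coe_mul, inv_mul_cancel,
    SpecialLinearGroup.coe_one, Matrix.one_mulVec]

theorem eq_one_of_three_lines (h2 : ∀ x : F, x + x = 0) (N : SpecialLinearGroup (Fin 2) F)
    (h₁ : SameLine ((N : Matrix (Fin 2) (Fin 2) F) *ᵥ vt none) (vt none))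
    (h₀ : SameLine ((N : Matrix (Fin 2) (Fin 2) F) *ᵥ vt (some 0)) (vt (some 0)))
    (h₁₁ : SameLine ((N : Matrix (Fin 2) (Fin 2) F) *ᵥ vt (some 1)) (vt (some 1))) : N = 1 := by
  obtain ⟨c, -, hc⟩ := h₁
  obtain ⟨e, -, he⟩ := h₀
  obtain ⟨f, -, hf⟩ := h₁₁
  have c1 := congrFun hc 1
  have e0 := congrFun he 0
  have f0 := congrFun hf 0
  have f1 := congrFun hf 1
  simp [vt, Matrix.mulVec, dotProduct, Fin.sum_univ_two] at c1 e0 f0 f1
  rw [c1, zero_add] at f1
  rw [e0, add_zero] at f0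
  have hdet := N.2
  rw [Matrix.det_fin_two, c1, e0, f0, f1] at hdet
  have hf1 : f = 1 := by
    have hsq : (f + 1) * (f + 1) = 0 := by linear_combination hdet + h2 f + h2 1
    have h3 := mul_self_eq_zero.mp hsq
    linear_combination h3 - h2 1
  ext i j
  fin_cases i <;> fin_cases j <;> simp [c1, e0, f0, f1, hf1]

variable {G X : Type*} [Group G] [MulAction G X]

/-- `g` acts on the parametrized points as `M` acts on the lines. -/
def Rel (pt : Option F → X) (g : G) (M : SpecialLinearGroup (Fin 2) F) : Prop :=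
  ∀ z, ∃ z', g • pt z = pt z' ∧ SameLine ((M : Matrix (Fin 2) (Fin 2) F) *ᵥ vt z) (vt z')

theorem Rel.mul {pt : Option F → X} {g g' : G} {M M' : SpecialLinearGroup (Fin 2) F}
    (hg : Rel pt g M) (hg' : Rel pt g' M') : Rel pt (g * g') (M * M') := by
  intro z
  obtain ⟨z', e', hv'⟩ := hg' z
  obtain ⟨z'', e'', hv''⟩ := hg z'
  refine ⟨z'', by rw [mul_smul, e', e''], ?_⟩
  rw [SpecialLinearGroup.coe_mul, ← Matrix.mulVec_mulVec]
  exact (SameLine.mulVec _ hv').trans hv''

/-- A sharply triply transitive group realised inside `SL(2, F)` is `SL(2, F)`. -/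
theorem nonempty_mulEquiv (h2 : ∀ x : F, x + x = 0) (pt : Option F → X)
    (hinj : Function.Injective pt) (hex : ∀ g : G, ∃ M, Rel pt g M)
    (h3 : ∀ g : G, g • pt none = pt none → g • pt (some 0) = pt (some 0) →
      g • pt (some 1) = pt (some 1) → g = 1)
    (htrans : ∀ a b c : Option F, a ≠ b → a ≠ c → b ≠ c →
      ∃ g : G, g • pt none = pt a ∧ g • pt (some 0) = pt b ∧ g • pt (some 1) = pt c) :
    Nonempty (G ≃* SpecialLinearGroup (Fin 2) F) := by
  have huniq1 : ∀ M, Rel pt (1 : G) M → M = 1 := by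
    intro M hM
    have hfix : ∀ z, SameLine ((M : Matrix (Fin 2) (Fin 2) F) *ᵥ vt z) (vt z) := by
      intro z
      obtain ⟨z', e, hv⟩ := hM z
      rw [one_smul] at e
      rwa [← hinj e] at hv
    exact eq_one_of_three_lines h2 M (hfix _) (hfix _) (hfix _)
  choose f hf using hex
  have huniq : ∀ g M, Rel pt g M → M = f g := by
    intro g M hM
    have h1 := huniq1 (M * f g⁻¹) (by simpa using hM.mul (hf g⁻¹))
    have h1' := huniq1 (f g * f g⁻¹) (by simpa using (hf g).mul (hf g⁻¹))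
    exact mul_right_cancel (h1.trans h1'.symm)
  let Φ : G →* SpecialLinearGroup (Fin 2) F :=
    MonoidHom.mk' f fun g g' => (huniq _ _ ((hf g).mul (hf g'))).symm
  refine ⟨MulEquiv.ofBijective Φ ⟨?_, ?_⟩⟩
  · rw [← MonoidHom.ker_eq_bot_iff, eq_bot_iff]
    intro g hg
    have hfix : ∀ z, g • pt z = pt z := by
      intro z
      obtain ⟨z', e, hv⟩ := hf g z
      rw [show f g = 1 from hg, SpecialLinearGroup.coe_one, Matrix.one_mulVec] at hv
      rw [e, eq_of_sameLine hv]
    exact h3 g (hfix _) (hfix _) (hfix _)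
  · intro N
    have hN : ∀ z, ∃ z', SameLine ((N : Matrix (Fin 2) (Fin 2) F) *ᵥ vt z) (vt z') := fun z =>
      exists_vt _ fun e => vt_ne_zero z (by
        rw [← inv_mulVec_mulVec N (vt z), e, Matrix.mulVec_zero])
    choose σ hσ using hN
    have hback : ∀ z, SameLine
        (((N⁻¹ : SpecialLinearGroup (Fin 2) F) : Matrix (Fin 2) (Fin 2) F) *ᵥ vt (σ z)) (vt z) := by
      intro z
      have h := SameLine.mulVec
        ((N⁻¹ : SpecialLinearGroup (Fin 2) F) : Matrix (Fin 2) (Fin 2) F) (hσ z)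
      rw [inv_mulVec_mulVec] at h
      exact h.symm
    have hσinj : ∀ z z', σ z = σ z' → z = z' := fun z z' e =>
      eq_of_sameLine ((hback z).symm.trans (e ▸ hback z'))
    obtain ⟨g, g1, g2, g3⟩ := htrans (σ none) (σ (some 0)) (σ (some 1))
      (fun e => Option.some_ne_none (0 : F) (hσinj _ _ e).symm)
      (fun e => Option.some_ne_none (1 : F) (hσinj _ _ e).symm)
      (fun e => zero_ne_one (Option.some.inj (hσinj _ _ e)))
    refine ⟨g, ?_⟩
    have hfix : ∀ z, g • pt z = pt (σ z) → SameLine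
        (((N⁻¹ * f g : SpecialLinearGroup (Fin 2) F) : Matrix (Fin 2) (Fin 2) F) *ᵥ vt z) (vt z) := by
      intro z hz
      obtain ⟨z', e, hv⟩ := hf g z
      obtain rfl : σ z = z' := hinj (hz.symm.trans e)
      rw [SpecialLinearGroup.coe_mul, ← Matrix.mulVec_mulVec]
      exact (SameLine.mulVec _ hv).trans (hback z)
    exact (inv_mul_eq_one.mp (eq_one_of_three_lines h2 _ (hfix _ g1) (hfix _ g2) (hfix _ g3))).symm

theorem center_eq_bot (h2 : ∀ x : F, x + x = 0) :
    Subgroup.center (SpecialLinearGroup (Fin 2) F) = ⊥ := by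
  rw [eq_bot_iff]
  intro N hN
  rw [Subgroup.mem_bot]
  have hu : (!![1, 1; 0, 1] : Matrix (Fin 2) (Fin 2) F) * (N : Matrix (Fin 2) (Fin 2) F) = (N : Matrix (Fin 2) (Fin 2) F) * !![1, 1; 0, 1] :=
    congrArg Subtype.val
      (Subgroup.mem_center_iff.mp hN ⟨!![1, 1; 0, 1], by simp [Matrix.det_fin_two]⟩)
  have hl : (!![1, 0; 1, 1] : Matrix (Fin 2) (Fin 2) F) * (N : Matrix (Fin 2) (Fin 2) F) = (N : Matrix (Fin 2) (Fin 2) F) * !![1, 0; 1, 1] :=
    congrArg Subtype.val
      (Subgroup.mem_center_iff.mp hN ⟨!![1, 0; 1, 1], by simp [Matrix.det_fin_two]⟩)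
  have a00 := congrFun (congrFun hu 0) 0
  have a01 := congrFun (congrFun hu 0) 1
  have b00 := congrFun (congrFun hl 0) 0
  simp [Matrix.mul_apply, Fin.sum_univ_two] at a00 a01 b00
  refine eq_one_of_three_lines h2 N ?_ ?_ ?_
  · refine ⟨(N : Matrix (Fin 2) (Fin 2) F) 0 0, ?_, funext (Fin.forall_fin_two.mpr ⟨?_, ?_⟩)⟩
    · intro h0
      have hdet := N.2
      rw [Matrix.det_fin_two, h0, a00] at hdet
      simp at hdet
    · simp [vt, Matrix.mulVec, dotProduct, Fin.sum_univ_two]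
    · simp [vt, Matrix.mulVec, dotProduct, Fin.sum_univ_two, a00]
  · refine ⟨(N : Matrix (Fin 2) (Fin 2) F) 1 1, ?_, funext (Fin.forall_fin_two.mpr ⟨?_, ?_⟩)⟩
    · intro h0
      have hdet := N.2
      rw [Matrix.det_fin_two, h0, a00] at hdet
      simp at hdet
    · simp [vt, Matrix.mulVec, dotProduct, Fin.sum_univ_two, b00]
    · simp [vt, Matrix.mulVec, dotProduct, Fin.sum_univ_two]
  · refine ⟨(N : Matrix (Fin 2) (Fin 2) F) 1 1, ?_, funext (Fin.forall_fin_two.mpr ⟨?_, ?_⟩)⟩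
    · intro h0
      have hdet := N.2
      rw [Matrix.det_fin_two, h0, a00] at hdet
      simp at hdet
    · simp [vt, Matrix.mulVec, dotProduct, Fin.sum_univ_two, b00]
      linear_combination -a01
    · simp [vt, Matrix.mulVec, dotProduct, Fin.sum_univ_two, a00]

end CfsgLib.SEmb.ProjLine
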