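import Mathlib.GroupTheory.Sylow
import Mathlib.GroupTheory.SpecificGroups.Cyclic
import Mathlib.GroupTheory.Subgroup.Centralizer
import Mathlib.GroupTheory.Complement
import Cfsg.Agent.Lib.SEmb.Counting
import Cfsg.Agent.S1226

/-!
# Groups with elementary abelian involution centralizers: the Zassenhaus group structure
-/

set_option autoImplicit false

namespace CfsgLib.SEmb

open MulAction

/-- The hypothesis: a Sylow `2`-subgroup neither cyclic nor normal, all involution centralizers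
elementary abelian. -/
structure ElemCent {G : Type*} [Group G] (T : Sylow 2 G) : Prop where
  hnc : ¬ IsCyclic (T : Subgroup G)
  hnn : ¬ (T : Subgroup G).Normal
  hC : ∀ t : G, orderOf t = 2 → IsMulCommutative (Subgroup.centralizer ({t} : Set G)) ∧
    ∀ c ∈ Subgroup.centralizer ({t} : Set G), c ^ 2 = 1

namespace ElemCent

variable {G : Type*} [Group G] [Finite G] {T : Sylow 2 G} (h : ElemCent T)
include h

local notation "HN" => Subgroup.normalizer ((T : Subgroup G) : Set G)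
local notation "Ω" => G ⧸ Subgroup.normalizer ((T : Subgroup G) : Set G)

theorem stronglyEmbedded : Cfsg.IsStronglyEmbedded HN :=
  Cfsg.Agent.S1226.result T h.hnc h.hnn h.hC

theorem nontrivial : Nontrivial (T : Subgroup G) :=
  (Subgroup.nontrivial_iff_ne_bot _).mpr fun e => h.hnn (e ▸ inferInstance)

theorem exists_central_invol :
    ∃ z ∈ (T : Subgroup G), orderOf z = 2 ∧ ∀ y ∈ (T : Subgroup G), Commute y z := by
  have := h.nontrivial
  have := T.isPGroup'.center_nontrivial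
  obtain ⟨z, hz⟩ := exists_prime_orderOf_dvd_card' (G := Subgroup.center (T : Subgroup G)) 2
    ((T.isPGroup'.to_subgroup (Subgroup.center (T : Subgroup G))).card_eq_or_dvd.resolve_left
      Finite.one_lt_card.ne')
  exact ⟨((z : (T : Subgroup G)) : G), (z : (T : Subgroup G)).2,
    by rw [Subgroup.orderOf_coe, Subgroup.orderOf_coe, hz],
    fun y hy => congrArg Subtype.val (Subgroup.mem_center_iff.mp z.2 ⟨y, hy⟩)⟩

theorem comm_T {a b : G} (ha : a ∈ (T : Subgroup G)) (hb : b ∈ (T : Subgroup G)) :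
    Commute a b := by
  obtain ⟨z, -, hz, hcz⟩ := h.exists_central_invol
  have hm : ∀ y ∈ (T : Subgroup G), y ∈ Subgroup.centralizer ({z} : Set G) := fun y hy =>
    Subgroup.mem_centralizer_singleton_iff.mpr (hcz y hy).eq
  exact congrArg Subtype.val ((h.hC z hz).1.is_comm.comm ⟨a, hm a ha⟩ ⟨b, hm b hb⟩)

theorem sq_T {a : G} (ha : a ∈ (T : Subgroup G)) : a * a = 1 := by
  obtain ⟨z, -, hz, hcz⟩ := h.exists_central_invol
  rw [← pow_two]
  exact (h.hC z hz).2 a (Subgroup.mem_centralizer_singleton_iff.mpr (hcz a ha).eq)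

theorem centralizer_eq {t : G} (htT : t ∈ (T : Subgroup G)) (ht : orderOf t = 2) :
    Subgroup.centralizer ({t} : Set G) = (T : Subgroup G) :=
  T.3 (fun c => ⟨1, Subtype.ext (by simpa using (h.hC t ht).2 c c.2)⟩)
    fun _ hy => Subgroup.mem_centralizer_singleton_iff.mpr (h.comm_T hy htT).eq

theorem invol_fix_base {t : G} (ht : orderOf t = 2) :
    t • (QuotientGroup.mk 1 : Ω) = QuotientGroup.mk 1 ↔ t ∈ (T : Subgroup G) := by
  rw [smul_one_eq_iff]
  refine ⟨fun hn => ?_, fun ht' => Subgroup.le_normalizer ht'⟩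
  have hp : IsPGroup 2 (Subgroup.zpowers t) :=
    IsPGroup.of_card (n := 1) (by rw [Nat.card_zpowers, ht, pow_one])
  have : t ∈ Subgroup.zpowers t ⊓ (T : Subgroup G) :=
    (hp.inf_normalizer_sylow T) ▸ ⟨Subgroup.mem_zpowers t, hn⟩
  exact this.2

theorem fix_base_of_mem {t : G} (ht : t ∈ (T : Subgroup G)) :
    t • (QuotientGroup.mk 1 : Ω) = QuotientGroup.mk 1 :=
  (smul_one_eq_iff t).mpr (Subgroup.le_normalizer ht)

theorem orderOf_mem_T {t : G} (ht : t ∈ (T : Subgroup G)) (h1 : t ≠ 1) : orderOf t = 2 :=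
  Invol.orderOf_eq_two h1 (h.sq_T ht)

theorem three_le : 4 ≤ Nat.card (T : Subgroup G) := by
  obtain ⟨k, hk⟩ := IsPGroup.iff_card.mp T.isPGroup'
  have hk2 : 2 ≤ k := by
    by_contra hlt
    apply h.hnc
    rcases (show k = 0 ∨ k = 1 by omega) with rfl | rfl
    · have := (Subgroup.card_eq_one.mp (by simpa using hk) : (T : Subgroup G) = ⊥)
      exact absurd (this ▸ inferInstance) h.hnn
    · exact isCyclic_of_prime_card (p := 2) (by simpa using hk)
  rw [hk]
  exact le_trans (by norm_num) (Nat.pow_le_pow_right two_pos hk2)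

theorem card_swap_eq (x y : Ω) : Nat.card (Swap x y) = Nat.card (T : Subgroup G) - 1 := by
  rw [card_swap h.stronglyEmbedded, card_swap_self_eq h.stronglyEmbedded x (QuotientGroup.mk 1)]
  classical
  have e : Swap (QuotientGroup.mk 1 : Ω) (QuotientGroup.mk 1) ≃
      {t : (T : Subgroup G) // t ≠ 1} :=
    { toFun := fun i => ⟨⟨i.1, (h.invol_fix_base i.2.1).mp i.2.2⟩,
        fun e => Invol.ne_one_of_invol i.2.1 (congrArg Subtype.val e)⟩
      invFun := fun t => ⟨t.1.1, h.orderOf_mem_T t.1.2 (fun e => t.2 (Subtype.ext e)),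
        h.fix_base_of_mem t.1.2⟩
      left_inv := fun i => rfl
      right_inv := fun t => rfl }
  have : Fintype (T : Subgroup G) := Fintype.ofFinite _
  rw [Nat.card_congr e, Nat.card_eq_fintype_card, Fintype.card_subtype_compl,
    Fintype.card_subtype_eq, Nat.card_eq_fintype_card]

/-- Involutions with a common fixed point commute. -/
theorem commute_of_fix {a b : G} (ha : orderOf a = 2) (hb : orderOf b = 2) {x : Ω}
    (hax : a • x = x) (hbx : b • x = x) : Commute a b := by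
  obtain ⟨g, rfl⟩ := exists_smul_eq G (QuotientGroup.mk 1 : Ω) x
  have hm : ∀ c : G, orderOf c = 2 → c • g • (QuotientGroup.mk 1 : Ω) = g • QuotientGroup.mk 1 →
      g⁻¹ * c * g ∈ (T : Subgroup G) := by
    intro c hc hcx
    refine (h.invol_fix_base ?_).mp ?_
    · rw [← hc]; simpa using Invol.orderOf_conj g⁻¹ c
    · rw [← smul_smul, ← smul_smul, hcx, inv_smul_smul]
  have := (h.comm_T (hm a ha hax) (hm b hb hbx)).map (MulAut.conj g).toMonoidHom
  simpa [mul_assoc] using this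

theorem eq_one_of_two_fix {k : G} (hk : k * k = 1) {x y : Ω} (hxy : x ≠ y) (hx : k • x = x)
    (hy : k • y = y) : k = 1 := by
  by_contra h1
  exact hxy (point_unique h.stronglyEmbedded (Invol.orderOf_eq_two h1 hk) hx hy)

theorem eq_one_of_fix_commute {d : G} {x y : Ω} (hxy : x ≠ y) (hx : d • x = x) (hy : d • y = y)
    {t : G} (ht : orderOf t = 2) (hc : Commute d t) : d = 1 :=
  h.eq_one_of_two_fix (by
    rw [← pow_two]
    exact (h.hC t ht).2 d (Subgroup.mem_centralizer_singleton_iff.mpr hc.eq)) hxy hx hy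

/-- The pointwise stabilizer of `x` and `y`. -/
theorem mem_stab {d : G} {x y : Ω} :
    d ∈ stabilizer G x ⊓ stabilizer G y ↔ d • x = x ∧ d • y = y := Iff.rfl

theorem conj_bijective {x y : Ω} (hxy : x ≠ y) {t : G} (ht : orderOf t = 2) (htx : t • x = x) :
    Function.Bijective (fun d : ↥(stabilizer G x ⊓ stabilizer G y) =>
      (⟨(d : G) * t * (d : G)⁻¹, by rw [Invol.orderOf_conj, ht], by
        have hd : (d : G) • x = x := d.2.1
        have hd' : (d : G)⁻¹ • x = x := inv_smul_eq_iff.mpr hd.symm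
        rw [← smul_smul, ← smul_smul, hd', htx, hd]⟩ : Swap x x)) := by
  constructor
  · intro a b hab
    have hab' : (a : G) * t * (a : G)⁻¹ = (b : G) * t * (b : G)⁻¹ := congrArg Subtype.val hab
    have hc : Commute ((b : G)⁻¹ * a) t := by
      have h2 := congrArg (fun z => (b : G)⁻¹ * z * a) hab'
      simpa [Commute, SemiconjBy, mul_assoc] using h2
    have hm := (stabilizer G x ⊓ stabilizer G y).mul_mem (Subgroup.inv_mem _ b.2) a.2
    have h1 : (b : G)⁻¹ * a = 1 := h.eq_one_of_fix_commute hxy hm.1 hm.2 ht hc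
    exact Subtype.ext (inv_mul_eq_one.mp h1).symm
  · rintro ⟨s, hs, hsx⟩
    obtain ⟨d, hd, hdc⟩ := exists_conj h.stronglyEmbedded ht hs htx hxy hsx
    exact ⟨⟨d, hd⟩, Subtype.ext hdc⟩

theorem card_stab {x y : Ω} (hxy : x ≠ y) :
    Nat.card ↥(stabilizer G x ⊓ stabilizer G y) = Nat.card (T : Subgroup G) - 1 := by
  obtain ⟨t, ht, htx⟩ := exists_invol_fix h.stronglyEmbedded x
  rw [Nat.card_congr (Equiv.ofBijective _ (h.conj_bijective hxy ht htx)), h.card_swap_eq x x]

theorem exists_ne_one {x y : Ω} (hxy : x ≠ y) :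
    ∃ d : G, (d • x = x ∧ d • y = y) ∧ d ≠ 1 := by
  have hc := h.card_stab hxy
  have := h.three_le
  have : Nontrivial ↥(stabilizer G x ⊓ stabilizer G y) :=
    Finite.one_lt_card_iff_nontrivial.mp (by omega)
  obtain ⟨d, hd⟩ := exists_ne (1 : ↥(stabilizer G x ⊓ stabilizer G y))
  exact ⟨d, d.2, fun e => hd (Subtype.ext e)⟩

/-- An involution exchanging two cosets inverts their common stabilizer. -/
theorem inverts {x y : Ω} (hxy : x ≠ y) {w : G} (hw : orderOf w = 2) (hwx : w • x = y) {d : G}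
    (hdx : d • x = x) (hdy : d • y = y) : w * d * w⁻¹ = d⁻¹ := by
  have hwy := (smul_invol_eq_iff hw x y).mp hwx
  let f : Swap x y → ↥(stabilizer G x ⊓ stabilizer G y) := fun i => ⟨w * i.1,
    show (w * i.1) • x = x by rw [← smul_smul, i.2.2, hwy],
    show (w * i.1) • y = y by rw [← smul_smul, (smul_invol_eq_iff i.2.1 x y).mp i.2.2, hwx]⟩
  have hf : Function.Injective f := fun a b hab =>
    Subtype.ext (mul_left_cancel (congrArg Subtype.val hab : w * a.1 = w * b.1))
  obtain ⟨⟨i, hi, hix⟩, hid⟩ := ((Nat.bijective_iff_injective_and_card f).mpr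
    ⟨hf, by rw [h.card_stab hxy, h.card_swap_eq]⟩).2 ⟨d, hdx, hdy⟩
  obtain rfl : w * i = d := congrArg Subtype.val hid
  rw [mul_inv_rev, Invol.inv_eq_self hw, Invol.inv_eq_self hi, ← mul_assoc,
    Invol.mul_self_eq_one hw, one_mul]

theorem inverts_rev {x y : Ω} (hxy : x ≠ y) {w : G} (hw : orderOf w = 2) (hwx : w • x = y)
    {d : G} (hdx : d • x = x) (hdy : d • y = y) : w * d⁻¹ * w⁻¹ = d :=
  (h.inverts hxy hw hwx (inv_smul_eq_iff.mpr hdx.symm) (inv_smul_eq_iff.mpr hdy.symm)).trans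
    (inv_inv d)

theorem exists_swap_invol {x y : Ω} (hxy : x ≠ y) : ∃ w : G, orderOf w = 2 ∧ w • x = y := by
  obtain ⟨t, ht, htx⟩ := exists_invol_fix h.stronglyEmbedded x
  obtain ⟨u, hu, huy⟩ := exists_invol_fix h.stronglyEmbedded y
  obtain ⟨w, hw, -⟩ := exists_swap h.stronglyEmbedded ht hu htx huy hxy
  exact ⟨w, hw⟩

theorem stab_commute {x y : Ω} (hxy : x ≠ y) {a b : G} (hax : a • x = x) (hay : a • y = y)
    (hbx : b • x = x) (hby : b • y = y) : Commute a b := by
  obtain ⟨w, hw, hwx⟩ := h.exists_swap_invol hxy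
  have hab : (b * a) • x = x ∧ (b * a) • y = y := by
    constructor <;> rw [← smul_smul] <;> simp [hax, hay, hbx, hby]
  have h1 := h.inverts hxy hw hwx hab.1 hab.2
  rw [← conj_mul, h.inverts hxy hw hwx hbx hby, h.inverts hxy hw hwx hax hay, mul_inv_rev] at h1
  have h2 := congrArg Inv.inv h1
  simpa [Commute, SemiconjBy] using h2

/-- Every element fixing `x` is the product of an element fixing `x, y` and one squaring to `1`
that fixes `x`. -/
theorem exists_factor {x y : Ω} (hxy : x ≠ y) {g : G} (hgx : g • x = x) :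
    ∃ d k : G, g = d * k ∧ (d • x = x ∧ d • y = y) ∧ k * k = 1 ∧ k • x = x := by
  obtain ⟨t, ht, htx⟩ := exists_invol_fix h.stronglyEmbedded x
  have hgx' : g⁻¹ • x = x := inv_smul_eq_iff.mpr hgx.symm
  obtain ⟨d, hd⟩ := (h.conj_bijective hxy ht htx).2
    ⟨g * t * g⁻¹, by rw [Invol.orderOf_conj, ht], by rw [← smul_smul, ← smul_smul, hgx', htx, hgx]⟩
  have hd' : (d : G) * t * (d : G)⁻¹ = g * t * g⁻¹ := congrArg Subtype.val hd
  have hc : Commute ((d : G)⁻¹ * g) t := by
    have h2 := congrArg (fun z => (d : G)⁻¹ * z * g) hd'.symm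
    simpa [Commute, SemiconjBy, mul_assoc] using h2
  refine ⟨d, (d : G)⁻¹ * g, by simp, d.2, ?_, ?_⟩
  · rw [← pow_two]
    exact (h.hC t ht).2 _ (Subgroup.mem_centralizer_singleton_iff.mpr hc.eq)
  · rw [← smul_smul, hgx]; exact inv_smul_eq_iff.mpr d.2.1.symm

theorem fix_of_commute_stab {x y : Ω} (hxy : x ≠ y) {d g : G} (hd1 : d ≠ 1) (hdx : d • x = x)
    (hdy : d • y = y) (hgx : g • x = x) (hc : Commute g d) : g • y = y := by
  obtain ⟨e, k, rfl, he, hk, hkx⟩ := h.exists_factor hxy hgx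
  rcases eq_or_ne k 1 with rfl | hk1
  · rw [mul_one]; exact he.2
  · exfalso
    have hed := h.stab_commute hxy he.1 he.2 hdx hdy
    have hkd : Commute d k := by
      have h2 := hed.inv_left.mul_left hc
      rw [inv_mul_cancel_left] at h2
      exact h2.symm
    exact hd1 (h.eq_one_of_fix_commute hxy hdx hdy (Invol.orderOf_eq_two hk1 hk) hkd)

/-- Only the identity fixes three points. -/
theorem eq_one_of_three_fix {x y z : Ω} (hxy : x ≠ y) (hxz : x ≠ z) (hyz : y ≠ z) {g : G}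
    (hgx : g • x = x) (hgy : g • y = y) (hgz : g • z = z) : g = 1 := by
  by_contra hg
  -- then every element fixing `x, y` fixes `z`, and conversely
  have hstab : ∀ {a b : Ω}, a ≠ b → g • b = b → g • a = a → ∀ {c : Ω}, a ≠ c → g • c = c →
      ∀ d : G, d • a = a → d • b = b → d • c = c := by
    intro a b hab hgb hga c hac hgc d hda hdb
    exact h.fix_of_commute_stab hac hg hga hgc hda (h.stab_commute hab hda hdb hga hgb)
  obtain ⟨r, hr, hrz⟩ := h.exists_swap_invol (x := z) (y := y) hyz.symm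
  obtain ⟨u, hu, huy⟩ := h.exists_swap_invol (x := y) (y := x) hxy.symm
  obtain ⟨v, hv, hvx⟩ := h.exists_swap_invol hxz
  have hfix : (v * (u * r)) • z = z := by rw [← smul_smul, ← smul_smul, hrz, huy, hvx]
  obtain ⟨d, ⟨hdx, hdy⟩, hd1⟩ := h.exists_ne_one hxy
  have hdz : d • z = z := hstab hxy hgy hgx hxz hgz d hdx hdy
  have hinv : (v * (u * r)) * d * (v * (u * r))⁻¹ = d⁻¹ := by
    have e1 := h.inverts hyz.symm hr hrz hdz hdy
    have e2 := h.inverts_rev hxy.symm hu huy hdy hdx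
    have e3 := h.inverts hxz hv hvx hdx hdz
    calc (v * (u * r)) * d * (v * (u * r))⁻¹ = v * (u * (r * d * r⁻¹) * u⁻¹) * v⁻¹ := by
          simp [mul_assoc]
      _ = d⁻¹ := by rw [e1, e2, e3]
  -- factor the inverting element inside the stabilizer of `z`
  obtain ⟨e, k, hek, ⟨hez, hey⟩, hk, hkz⟩ := h.exists_factor hyz.symm hfix
  have hed := h.stab_commute hyz.symm hdz hdy hez hey
  have hk' : k * d * k⁻¹ = d⁻¹ := by
    have h2 : e⁻¹ * ((v * (u * r)) * d * (v * (u * r))⁻¹) * e = e⁻¹ * d⁻¹ * e := by rw [hinv]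
    rw [hek, mul_assoc e⁻¹ d⁻¹, hed.inv_left.eq, inv_mul_cancel_left] at h2
    simpa [mul_assoc] using h2
  have hsq : d * d = 1 → False := fun h2 =>
    hd1 (h.eq_one_of_two_fix h2 hxy hdx hdy)
  rcases eq_or_ne k 1 with rfl | hk1
  · exact hsq (by rw [← eq_inv_iff_mul_eq_one]; simpa using hk')
  · have hko := Invol.orderOf_eq_two hk1 hk
    have hco : orderOf (d * k * d⁻¹) = 2 := by rw [Invol.orderOf_conj, hko]
    have hcz : (d * k * d⁻¹) • z = z := by
      rw [← smul_smul, ← smul_smul, inv_smul_eq_iff.mpr hdz.symm, hkz, hdz]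
    have hkk := h.commute_of_fix hko hco hkz hcz
    have e1 : k * (d * k * d⁻¹) = d⁻¹ * d⁻¹ := by
      rw [← mul_assoc, ← mul_assoc]
      nth_rewrite 2 [← Invol.inv_eq_self hko]
      rw [hk']
    have e2 : d⁻¹ * d⁻¹ * (d⁻¹ * d⁻¹) = 1 := by
      rw [← e1]
      nth_rewrite 2 [hkk.eq]
      rw [mul_assoc, ← mul_assoc (d * k * d⁻¹) (d * k * d⁻¹), Invol.mul_self_eq_one hco,
        one_mul, hk]
    have h4 : d⁻¹ * d⁻¹ = 1 := h.eq_one_of_two_fix e2 hxy
      (by rw [← smul_smul, inv_smul_eq_iff.mpr hdx.symm, inv_smul_eq_iff.mpr hdx.symm])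
      (by rw [← smul_smul, inv_smul_eq_iff.mpr hdy.symm, inv_smul_eq_iff.mpr hdy.symm])
    exact hsq (by simpa using congrArg Inv.inv h4)

theorem fixed_points {x y z : Ω} (hxy : x ≠ y)
    (hz : ∀ d : G, d • x = x → d • y = y → d • z = z) : z = x ∨ z = y := by
  by_contra hne
  rw [not_or] at hne
  obtain ⟨d, ⟨hdx, hdy⟩, hd1⟩ := h.exists_ne_one hxy
  exact hd1 (h.eq_one_of_three_fix hxy (Ne.symm hne.1) (Ne.symm hne.2) hdx hdy (hz d hdx hdy))

theorem stab_self_normalizing {x y : Ω} (hxy : x ≠ y) {g : G} (hgx : g • x = x)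
    (hn : ∀ d : G, d • x = x → d • y = y → (g⁻¹ * d * g) • y = y) : g • y = y := by
  have hz : ∀ d : G, d • x = x → d • y = y → d • (g • y) = g • y := by
    intro d hdx hdy
    have := congrArg (g • ·) (hn d hdx hdy)
    simpa [smul_smul, mul_assoc] using this
  exact (h.fixed_points hxy hz).resolve_left fun e =>
    hxy ((smul_left_cancel g) ((hgx.trans e.symm)))

/-- The Sylow subgroup is regular on the other cosets. -/
theorem translation_bijective {y : Ω} (hy : y ≠ QuotientGroup.mk 1) :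
    Function.Bijective (fun t : (T : Subgroup G) =>
      (⟨(t : G) • y, fun e => hy (smul_left_cancel (t : G) (e.trans (h.fix_base_of_mem t.2).symm))⟩ :
        {z : Ω // z ≠ QuotientGroup.mk 1})) := by
  classical
  set o : Ω := QuotientGroup.mk 1 with ho
  have hinj : Function.Injective (fun t : (T : Subgroup G) => (t : G) • y) := by
    intro a b hab
    have hab' : ((b : G)⁻¹ * a) • y = y := by
      rw [← smul_smul]; exact inv_smul_eq_iff.mpr hab
    have hm := (T : Subgroup G).mul_mem (Subgroup.inv_mem _ b.2) a.2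
    exact Subtype.ext (inv_mul_eq_one.mp
      (h.eq_one_of_two_fix (h.sq_T hm) hy hab' (h.fix_base_of_mem hm))).symm
  refine (Nat.bijective_iff_injective_and_card _).mpr
    ⟨fun a b hab => hinj (congrArg Subtype.val hab), ?_⟩
  refine le_antisymm (Nat.card_le_card_of_injective _
    (fun a b hab => hinj (congrArg Subtype.val hab) :
      Function.Injective fun t : (T : Subgroup G) =>
        (⟨(t : G) • y, fun e => hy (smul_left_cancel (t : G) (e.trans (h.fix_base_of_mem t.2).symm))⟩ :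
          {z : Ω // z ≠ o}))) ?_
  -- the nontrivial parts of the two-point stabilizers are disjoint inside `H \ T`
  have hmap : ∀ p : Σ z : {z : Ω // z ≠ o},
      {d : ↥(stabilizer G o ⊓ stabilizer G z.1) // d ≠ 1},
      (p.2.1 : G) ∈ HN ∧ (p.2.1 : G) ∉ (T : Subgroup G) := by
    rintro ⟨z, ⟨d, hdo, hdz⟩, hd⟩
    refine ⟨(smul_one_eq_iff d).mp hdo, fun hT => hd (Subtype.ext ?_)⟩
    exact h.eq_one_of_two_fix (h.sq_T hT) z.2 hdz hdo
  let f : (Σ z : {z : Ω // z ≠ o}, {d : ↥(stabilizer G o ⊓ stabilizer G z.1) // d ≠ 1}) →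
      {g : G // g ∈ HN ∧ g ∉ (T : Subgroup G)} := fun p => ⟨p.2.1, hmap p⟩
  have hf : Function.Injective f := by
    rintro ⟨⟨z, hz⟩, ⟨d, hdo, hdz⟩, hd⟩ ⟨⟨z', hz'⟩, ⟨d', hdo', hdz'⟩, hd'⟩ e
    obtain rfl : d = d' := congrArg Subtype.val e
    by_cases hzz : z = z'
    · subst hzz; rfl
    · exact absurd (Subtype.ext (h.eq_one_of_three_fix hz.symm hz'.symm hzz hdo hdz hdz'))
        hd
  have hle := Nat.card_le_card_of_injective f hf
  have : Fintype {z : Ω // z ≠ o} := Fintype.ofFinite _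
  have hstab : ∀ z : {z : Ω // z ≠ o},
      Nat.card {d : ↥(stabilizer G o ⊓ stabilizer G z.1) // d ≠ 1} =
        Nat.card (T : Subgroup G) - 2 := by
    intro z
    have : Fintype ↥(stabilizer G o ⊓ stabilizer G z.1) := Fintype.ofFinite _
    rw [Nat.card_eq_fintype_card, Fintype.card_subtype_compl, Fintype.card_subtype_eq,
      ← Nat.card_eq_fintype_card, h.card_stab (Ne.symm z.2)]
    omega
  rw [Nat.card_sigma, Finset.sum_congr rfl (fun z _ => hstab z), Finset.sum_const,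
    Finset.card_univ, smul_eq_mul, ← Nat.card_eq_fintype_card] at hle
  -- `|H \ T| = q (q - 2)`
  have hH : Nat.card HN ≤ Nat.card (T : Subgroup G) * (Nat.card (T : Subgroup G) - 1) := by
    rw [← h.card_stab hy.symm, ← Nat.card_prod]
    refine Nat.card_le_card_of_surjective
      (fun p : ↥(T : Subgroup G) × ↥(stabilizer G o ⊓ stabilizer G y) =>
        (⟨(p.2 : G) * p.1, Subgroup.mul_mem _ ((smul_one_eq_iff _).mp p.2.2.1)
          (Subgroup.le_normalizer p.1.2)⟩ : HN)) ?_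
    intro g
    obtain ⟨d, k, hg, hd, hk, hko⟩ := h.exists_factor hy.symm ((smul_one_eq_iff (g : G)).mpr g.2)
    refine ⟨⟨⟨k, ?_⟩, ⟨d, hd⟩⟩, Subtype.ext hg.symm⟩
    rcases eq_or_ne k 1 with rfl | hk1
    · exact Subgroup.one_mem _
    · exact (h.invol_fix_base (Invol.orderOf_eq_two hk1 hk)).mp hko
  have hcard : Nat.card {g : G // g ∈ HN ∧ g ∉ (T : Subgroup G)} + Nat.card (T : Subgroup G)
      ≤ Nat.card HN := by
    rw [← Nat.card_sum]
    refine Nat.card_le_card_of_injective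
      (Sum.elim (fun g => (⟨g.1, g.2.1⟩ : HN)) (fun t => ⟨t.1, Subgroup.le_normalizer t.2⟩)) ?_
    intro a b hab
    rcases a with ⟨g, hg⟩ | ⟨t, ht⟩ <;> rcases b with ⟨g', hg'⟩ | ⟨t', ht'⟩ <;>
      simp only [Sum.elim_inl, Sum.elim_inr, Subtype.mk.injEq] at hab <;> subst hab
    · rfl
    · exact absurd ht' hg.2
    · exact absurd ht hg'.2
    · rfl
  obtain ⟨m, hm⟩ : ∃ m, Nat.card (T : Subgroup G) = m + 4 :=
    ⟨_, (Nat.sub_add_cancel h.three_le).symm⟩
  rw [hm] at hle hH hcard ⊢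
  simp only [show m + 4 - 1 = m + 3 by omega, show m + 4 - 2 = m + 2 by omega] at hle hH
  by_contra hlt
  have := Nat.mul_le_mul_right (m + 2) (Nat.succ_le_of_lt (not_le.mp hlt))
  nlinarith

theorem exists_map_pair {x y : Ω} (hxy : x ≠ y) {y' : Ω} (hxy' : x ≠ y') :
    ∃ g : G, g • x = x ∧ g • y = y' := by
  obtain ⟨a, rfl⟩ := exists_smul_eq G (QuotientGroup.mk 1 : Ω) x
  have h1 : a⁻¹ • y ≠ QuotientGroup.mk 1 := fun e => hxy (inv_smul_eq_iff.mp e).symm
  have h2 : a⁻¹ • y' ≠ QuotientGroup.mk 1 := fun e => hxy' (inv_smul_eq_iff.mp e).symm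
  obtain ⟨t, ht⟩ := (h.translation_bijective h1).2 ⟨_, h2⟩
  have ht' : (t : G) • a⁻¹ • y = a⁻¹ • y' := congrArg Subtype.val ht
  refine ⟨a * t * a⁻¹, ?_, ?_⟩
  · rw [← smul_smul, ← smul_smul, inv_smul_smul, h.fix_base_of_mem t.2]
  · rw [← smul_smul, ← smul_smul, ht', smul_inv_smul]

theorem card_points : Nat.card Ω = Nat.card (T : Subgroup G) + 1 := by
  classical
  obtain ⟨y, hy⟩ : ∃ y : Ω, y ≠ QuotientGroup.mk 1 := by
    by_contra h2
    push Not at h2
    exact h.stronglyEmbedded.1 ((Subgroup.eq_top_iff' _).mpr fun g => by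
      simpa using QuotientGroup.eq.mp (h2 (QuotientGroup.mk g)).symm)
  have : Fintype Ω := Fintype.ofFinite _
  have hpos : 0 < Fintype.card Ω := Fintype.card_pos_iff.mpr ⟨y⟩
  have e := Nat.card_congr (Equiv.ofBijective _ (h.translation_bijective hy))
  rw [Nat.card_eq_fintype_card (α := {z : Ω // z ≠ QuotientGroup.mk 1}),
    Fintype.card_subtype_compl, Fintype.card_subtype_eq] at e
  rw [Nat.card_eq_fintype_card]
  omega

theorem stab_transitive {x y z z' : Ω} (hxy : x ≠ y) (hzx : z ≠ x) (hzy : z ≠ y) (hzx' : z' ≠ x)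
    (hzy' : z' ≠ y) : ∃ d : G, (d • x = x ∧ d • y = y) ∧ d • z = z' := by
  classical
  let f : ↥(stabilizer G x ⊓ stabilizer G y) → {w : Ω // w ≠ x ∧ w ≠ y} := fun d =>
    ⟨(d : G) • z, fun e => hzx (smul_left_cancel (d : G) (e.trans d.2.1.symm)),
      fun e => hzy (smul_left_cancel (d : G) (e.trans d.2.2.symm))⟩
  have hf : Function.Injective f := by
    intro a b hab
    have hab' : (a : G) • z = (b : G) • z := congrArg Subtype.val hab
    have hm := (stabilizer G x ⊓ stabilizer G y).mul_mem (Subgroup.inv_mem _ b.2) a.2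
    refine Subtype.ext (inv_mul_eq_one.mp
      (h.eq_one_of_three_fix hxy hzx.symm hzy.symm hm.1 hm.2 ?_)).symm
    rw [← smul_smul]; exact inv_smul_eq_iff.mpr hab'
  have hcard : Nat.card {w : Ω // w ≠ x ∧ w ≠ y} = Nat.card (T : Subgroup G) - 1 := by
    have : Fintype Ω := Fintype.ofFinite _
    have e : Finset.univ.filter (fun w : Ω => w ≠ x ∧ w ≠ y) = ({x, y} : Finset Ω)ᶜ := by
      ext w; simp [not_or]
    rw [Nat.card_eq_fintype_card, Fintype.card_subtype, e, Finset.card_compl,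
      Finset.card_pair hxy, ← Nat.card_eq_fintype_card, h.card_points]
    have := h.three_le
    omega
  obtain ⟨d, hd⟩ := ((Nat.bijective_iff_injective_and_card f).mpr
    ⟨hf, by rw [hcard, h.card_stab hxy]⟩).2 ⟨z', hzx', hzy'⟩
  exact ⟨d, d.2, congrArg Subtype.val hd⟩

theorem triply_transitive {x₁ x₂ x₃ y₁ y₂ y₃ : Ω} (h12 : x₁ ≠ x₂) (h13 : x₁ ≠ x₃) (h23 : x₂ ≠ x₃)
    (k12 : y₁ ≠ y₂) (k13 : y₁ ≠ y₃) (k23 : y₂ ≠ y₃) :
    ∃ g : G, g • x₁ = y₁ ∧ g • x₂ = y₂ ∧ g • x₃ = y₃ := by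
  obtain ⟨a, ha⟩ := exists_smul_eq G x₁ y₁
  have hn : ∀ w : Ω, x₁ ≠ w → a • w ≠ y₁ := fun w hw e =>
    hw (smul_left_cancel a (ha.trans e.symm))
  obtain ⟨b, hb1, hb2⟩ := h.exists_map_pair (hn x₂ h12).symm k12
  have hz1 : b • a • x₃ ≠ y₁ := fun e => hn x₃ h13 (smul_left_cancel b (e.trans hb1.symm))
  have hz2 : b • a • x₃ ≠ y₂ := fun e =>
    h23 (smul_left_cancel a (smul_left_cancel b (hb2.trans e.symm)))
  obtain ⟨d, ⟨hd1, hd2⟩, hd3⟩ := h.stab_transitive k12 hz1 hz2 k13.symm k23.symm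
  exact ⟨d * b * a, by rw [← smul_smul, ← smul_smul, ha, hb1, hd1],
    by rw [← smul_smul, ← smul_smul, hb2, hd2], by rw [← smul_smul, ← smul_smul, hd3]⟩

theorem base_ne {u : G} (hu : u ∉ HN) : (QuotientGroup.mk 1 : Ω) ≠ QuotientGroup.mk u :=
  fun e => hu (by simpa using QuotientGroup.eq.mp e)

theorem swap_base {u : G} : u • (QuotientGroup.mk 1 : Ω) = QuotientGroup.mk u := by
  rw [Quotient.smul_mk, smul_eq_mul, mul_one]

end ElemCent

end CfsgLib.SEmb
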