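import Mathlib.RingTheory.IntegralDomain
import Mathlib.Algebra.Ring.Subring.Basic
import Mathlib.Algebra.Field.Shrink
import Mathlib.Algebra.Ring.Shrink
import Mathlib.Algebra.Group.TypeTags.Hom
import Mathlib.Algebra.CharP.Two
import Cfsg.Agent.Lib.SEmb.Zassenhaus

/-!
# The field of a Zassenhaus group with elementary abelian involution centralizers
-/

set_option autoImplicit false

namespace CfsgLib.SEmb

open MulAction

namespace ElemCent

variable {G : Type*} [Group G] [Finite G] {T : Sylow 2 G} (h : ElemCent T)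
include h

local notation "Ω" => G ⧸ Subgroup.normalizer ((T : Subgroup G) : Set G)

/-- `T` as the additive group of a finite field on which the two point stabilizer acts by
scalars. -/
theorem exists_field {b : Ω} (hb : b ≠ QuotientGroup.mk 1) :
    ∃ (F : Type) (_ : Field F) (_ : Fintype F) (τ : F → G), Fintype.card F = Nat.card T ∧
      (∀ a, τ a ∈ (T : Subgroup G)) ∧ Function.Injective τ ∧
      (∀ t ∈ (T : Subgroup G), ∃ a, τ a = t) ∧ (∀ a c, τ (a + c) = τ a * τ c) ∧
      (∀ d : G, d • (QuotientGroup.mk 1 : Ω) = QuotientGroup.mk 1 → d • b = b →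
        ∃ s : F, s ≠ 0 ∧ ∀ a, d * τ a * d⁻¹ = τ (s * a)) ∧
      (∀ s : F, s ≠ 0 → ∃ d : G, (d • (QuotientGroup.mk 1 : Ω) = QuotientGroup.mk 1 ∧ d • b = b) ∧
        ∀ a, d * τ a * d⁻¹ = τ (s * a)) := by
  classical
  let _ : CommGroup (T : Subgroup G) :=
    { (inferInstance : Group (T : Subgroup G)) with
      mul_comm := fun a c => Subtype.ext (h.comm_T a.2 c.2) }
  let A := Additive (T : Subgroup G)
  have hstab : ∀ d : G, d • (QuotientGroup.mk 1 : Ω) = QuotientGroup.mk 1 →
      ∀ x, x ∈ (T : Subgroup G) → d * x * d⁻¹ ∈ (T : Subgroup G) := fun d hd x hx =>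
    (Subgroup.mem_normalizer_iff.mp ((smul_one_eq_iff d).mp hd) x).mp hx
  let δ : ↥(stabilizer G (QuotientGroup.mk 1 : Ω) ⊓ stabilizer G b) → AddMonoid.End A := fun d =>
    { toFun := fun a => Additive.ofMul
        ⟨(d : G) * (Additive.toMul a : (T : Subgroup G)) * (d : G)⁻¹,
          hstab d d.2.1 _ (Additive.toMul a).2⟩
      map_zero' := by
        apply Additive.toMul.injective
        exact Subtype.ext (by simp)
      map_add' := fun a c => Additive.toMul.injective (Subtype.ext (show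
        (d : G) * (((Additive.toMul a : (T : Subgroup G)) : G) * (Additive.toMul c : (T : Subgroup G))) * (d : G)⁻¹
          = (d : G) * (Additive.toMul a : (T : Subgroup G)) * (d : G)⁻¹ *
            ((d : G) * (Additive.toMul c : (T : Subgroup G)) * (d : G)⁻¹) by simp [mul_assoc])) }
  have hδmul : ∀ d e, δ (d * e) = δ d * δ e := fun d e => AddMonoidHom.ext fun a =>
    Additive.toMul.injective (Subtype.ext (show
      ((d : G) * (e : G)) * (Additive.toMul a : (T : Subgroup G)) * ((d : G) * (e : G))⁻¹ =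
        (d : G) * ((e : G) * (Additive.toMul a : (T : Subgroup G)) * (e : G)⁻¹) * (d : G)⁻¹ by
      simp [mul_assoc]))
  have hδinj : ∀ d a, δ d a = 0 → a = 0 := by
    intro d a ha
    have h2 : (d : G) * ((Additive.toMul a : (T : Subgroup G)) : G) * (d : G)⁻¹ = 1 :=
      congrArg (fun z : A => ((Additive.toMul z : (T : Subgroup G)) : G)) ha
    exact Additive.toMul.injective (Subtype.ext (conj_eq_one_iff.mp h2))
  have hcomm : ∀ x ∈ Set.range δ, ∀ y ∈ Set.range δ, x * y = y * x := by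
    rintro _ ⟨d, rfl⟩ _ ⟨e, rfl⟩
    rw [← hδmul, ← hδmul]
    congr 1
    exact Subtype.ext (h.stab_commute hb.symm d.2.1 d.2.2 e.2.1 e.2.2)
  let R := Subring.closure (Set.range δ)
  let _ : CommRing R := Subring.closureCommRingOfComm hcomm
  obtain ⟨t₀, ht₀T, ht₀, -⟩ := h.exists_central_invol
  let a₀ : A := Additive.ofMul ⟨t₀, ht₀T⟩
  have ha₀ : a₀ ≠ 0 := fun e => Invol.ne_one_of_invol ht₀
    (congrArg (fun z : A => ((Additive.toMul z : (T : Subgroup G)) : G)) e)
  have htrans : ∀ a : A, a ≠ 0 → ∃ d, δ d a₀ = a := by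
    intro a ha
    have ha1 : ((Additive.toMul a : (T : Subgroup G)) : G) ≠ 1 := fun e =>
      ha (Additive.toMul.injective (Subtype.ext e))
    obtain ⟨d, hd⟩ := (h.conj_bijective hb.symm ht₀ (h.fix_base_of_mem ht₀T)).2
      ⟨_, h.orderOf_mem_T (Additive.toMul a).2 ha1, h.fix_base_of_mem (Additive.toMul a).2⟩
    exact ⟨d, Additive.toMul.injective (Subtype.ext (congrArg Subtype.val hd :))⟩
  have hmem : ∀ d, δ d ∈ R := fun d => Subring.subset_closure ⟨d, rfl⟩
  have hRcomm : ∀ r : R, ∀ d a, (r : AddMonoid.End A) (δ d a) = δ d ((r : AddMonoid.End A) a) := by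
    intro r d a
    have e := congrArg Subtype.val (mul_comm r ⟨δ d, hmem d⟩)
    exact DFunLike.congr_fun e a
  let ev : R → A := fun r => (r : AddMonoid.End A) a₀
  have hev0 : ∀ r : R, ev r = 0 → r = 0 := by
    intro r hr
    refine Subtype.ext (AddMonoidHom.ext fun a => ?_)
    rcases eq_or_ne a 0 with rfl | ha
    · exact map_zero _
    · obtain ⟨d, rfl⟩ := htrans a ha
      exact (hRcomm r d a₀).trans ((congrArg (δ d) hr).trans (map_zero _))
  have hevadd : ∀ r s, ev (r + s) = ev r + ev s := fun r s => rfl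
  have hevsub : ∀ r s, ev (r - s) = ev r - ev s := fun r s => by
    rw [eq_sub_iff_add_eq, ← hevadd, sub_add_cancel]
  have hevbij : Function.Bijective ev := by
    refine ⟨fun r s hrs => sub_eq_zero.mp (hev0 _ (by rw [hevsub, hrs, sub_self])), fun a => ?_⟩
    rcases eq_or_ne a 0 with rfl | ha
    · exact ⟨0, rfl⟩
    · obtain ⟨d, hd⟩ := htrans a ha
      exact ⟨⟨δ d, hmem d⟩, hd⟩
  have : Nontrivial R := ⟨⟨1, 0, fun e => ha₀ (show ev 1 = ev 0 from congrArg ev e)⟩⟩
  have : NoZeroDivisors R := ⟨fun {r s} hrs => by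
    by_contra hne
    rw [not_or] at hne
    obtain ⟨d, hd⟩ := htrans (ev s) fun e => hne.2 (hev0 s e)
    have h2 : (r : AddMonoid.End A) (ev s) = 0 := congrArg ev hrs
    rw [← hd] at h2
    exact hne.1 (hev0 r (hδinj d _ ((hRcomm r d a₀).symm.trans h2)))⟩
  have : IsDomain R := NoZeroDivisors.to_isDomain R
  have : Finite R := Finite.of_injective ev hevbij.1
  let _ : Fintype R := Fintype.ofFinite R
  let _ : Field R := Fintype.fieldOfDomain R
  let φ : Shrink.{0} R ≃+* R := Shrink.ringEquiv.{0} R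
  let _ : Fintype (Shrink.{0} R) := Fintype.ofEquiv R (equivShrink.{0} R)
  let τ : Shrink.{0} R → G := fun a => ((Additive.toMul (ev (φ a)) : (T : Subgroup G)) : G)
  have hτd : ∀ d : ↥(stabilizer G (QuotientGroup.mk 1 : Ω) ⊓ stabilizer G b),
      ∀ s, φ s = ⟨δ d, hmem d⟩ → ∀ a, (d : G) * τ a * (d : G)⁻¹ = τ (s * a) := by
    intro d s hs a
    simp only [τ, map_mul, hs]
    rfl
  have hτinj : Function.Injective τ := fun a c e =>
    φ.injective (hevbij.1 (Additive.toMul.injective (Subtype.ext e)))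
  refine ⟨Shrink.{0} R, inferInstance, inferInstance, τ, ?_, fun a => (Additive.toMul (ev (φ a))).2,
    hτinj, fun t ht => ?_, fun a c => ?_, fun d hdo hdb => ?_, fun s hs => ?_⟩
  · rw [← Nat.card_eq_fintype_card, Nat.card_congr (φ.toEquiv.trans (Equiv.ofBijective _ hevbij))]
    rfl
  · obtain ⟨r, hr⟩ := hevbij.2 (Additive.ofMul ⟨t, ht⟩)
    exact ⟨φ.symm r, by simp [τ, hr]⟩
  · simp only [τ, map_add, hevadd]
    rfl
  · refine ⟨φ.symm ⟨δ ⟨d, hdo, hdb⟩, hmem _⟩, ?_, hτd ⟨d, hdo, hdb⟩ _ (φ.apply_symm_apply _)⟩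
    intro e0
    have h1 : (⟨δ ⟨d, hdo, hdb⟩, hmem _⟩ : R) = 0 := by
      simpa using congrArg φ e0
    exact ha₀ (hδinj _ _ (congrArg ev h1))
  · have hs' : ev (φ s) ≠ 0 := fun e0 => hs (by simpa using hev0 _ e0)
    obtain ⟨d, hd⟩ := htrans _ hs'
    exact ⟨d, d.2, hτd d s (hevbij.1 hd.symm)⟩

end ElemCent

end CfsgLib.SEmb
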