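import Mathlib.FieldTheory.Finite.Basic
import Cfsg.Agent.Lib.SEmb.ZassenhausField
import Cfsg.Agent.Lib.SEmb.ProjLineRel

/-!
# A Zassenhaus group with elementary abelian involution centralizers is `SL(2, 2^n)`
-/

set_option autoImplicit false

namespace CfsgLib.SEmb

open MulAction Matrix

namespace ElemCent

variable {G : Type*} [Group G] [Finite G] {T : Sylow 2 G} (h : ElemCent T)
include h

local notation "Ω" => G ⧸ Subgroup.normalizer ((T : Subgroup G) : Set G)
local notation "o" => (QuotientGroup.mk 1 : G ⧸ Subgroup.normalizer ((T : Subgroup G) : Set G))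

theorem exists_swap_fixing {b c : Ω} (hb : b ≠ o) (hco : c ≠ o) (hcb : c ≠ b) :
    ∃ w : G, orderOf w = 2 ∧ w • o = b ∧ w • b = o ∧ w • c = c := by
  obtain ⟨u, hu, huo⟩ := h.exists_swap_invol hb.symm
  have hub := (smul_invol_eq_iff hu _ _).mp huo
  have hu1 : u • c ≠ o ∧ u • c ≠ b :=
    ⟨fun e => hcb (smul_left_cancel u (e.trans hub.symm)),
      fun e => hco (smul_left_cancel u (e.trans huo.symm))⟩
  obtain ⟨d, ⟨hdo, hdb⟩, hd⟩ := h.stab_transitive hb.symm hu1.1 hu1.2 hco hcb
  have hwo : (d * u) • o = b := by rw [mul_smul, huo, hdb]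
  refine ⟨d * u, Invol.orderOf_eq_two ?_ ?_, hwo, by rw [mul_smul, hub, hdo],
    by rw [mul_smul, hd]⟩
  · intro e
    rw [e, one_smul] at hwo
    exact hb hwo.symm
  · have h3 := h.inverts hb.symm hu huo hdo hdb
    rw [Invol.inv_eq_self hu] at h3
    calc d * u * (d * u) = d * (u * d * u) := by simp [mul_assoc]
      _ = 1 := by rw [h3, mul_inv_cancel]

theorem nonempty_equiv_SL2 :
    ∃ (F : Type) (_ : Field F) (_ : Fintype F), Fintype.card F = Nat.card T ∧
      (∀ x : F, x + x = 0) ∧ Nonempty (G ≃* Matrix.SpecialLinearGroup (Fin 2) F) := by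
  obtain ⟨b, hb⟩ : ∃ b : Ω, b ≠ o := by
    by_contra h2
    push Not at h2
    exact h.stronglyEmbedded.1 ((Subgroup.eq_top_iff' _).mpr fun g => by
      simpa using QuotientGroup.eq.mp (h2 (QuotientGroup.mk g)).symm)
  obtain ⟨F, instF, instFin, τ, hcard, hτT, hτinj, hτsurj, hτadd, hdil, hdil'⟩ := h.exists_field hb
  have hτ0 : τ 0 = 1 := by
    have h1 := hτadd 0 0
    rw [add_zero] at h1
    exact left_eq_mul.mp h1
  have h2 : ∀ x : F, x + x = 0 := fun x => hτinj (by rw [hτadd, hτ0, h.sq_T (hτT x)])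
  have hchar : ringChar F = 2 := by
    have : CharP F 2 := CharTwo.of_one_ne_zero_of_two_eq_zero one_ne_zero
      (by rw [← one_add_one_eq_two]; exact h2 1)
    exact ringChar.eq F 2
  let pt : Option F → Ω := fun z => z.elim o (fun a => τ a • b)
  have hτo : ∀ a, τ a • o = o := fun a => h.fix_base_of_mem (hτT a)
  have hpo : ∀ a : F, τ a • b ≠ o :=
    fun a e => hb (smul_left_cancel (τ a) (e.trans (hτo a).symm))
  have hp : ∀ a c : F, τ a • b = τ c • b → a = c := by
    intro a c e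
    have := (h.translation_bijective hb).1 (a₁ := ⟨τ a, hτT a⟩) (a₂ := ⟨τ c, hτT c⟩) (Subtype.ext e)
    exact hτinj (congrArg Subtype.val this)
  have hinj : Function.Injective pt := by
    rintro (_ | a) (_ | c) e
    · rfl
    · exact absurd e.symm (hpo c)
    · exact absurd e (hpo a)
    · exact congrArg some (hp a c e)
  have hsurj : ∀ z, ∃ a, pt a = z := by
    intro z
    by_cases hz : z = o
    · exact ⟨none, hz.symm⟩
    · obtain ⟨t, ht⟩ := (h.translation_bijective hb).2 ⟨z, hz⟩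
      obtain ⟨a, ha⟩ := hτsurj t t.2
      refine ⟨some a, ?_⟩
      show τ a • b = z
      rw [ha]; exact congrArg Subtype.val ht
  have hp0 : pt (some 0) = b := by simp [pt, hτ0]
  have hb1 : pt (some 1) ≠ b := fun e =>
    one_ne_zero (Option.some.inj (hinj (e.trans hp0.symm)))
  have hpd : ∀ d : G, d • b = b → ∀ s, (∀ a, d * τ a * d⁻¹ = τ (s * a)) →
      ∀ a, d • pt (some a) = pt (some (s * a)) := by
    intro d hdb s hs a
    simp only [pt, Option.elim, ← hs a, mul_smul, inv_smul_eq_iff.mpr hdb.symm]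
  -- translations
  have hPτ : ∀ a, ∃ M, ProjLine.Rel pt (τ a) M := by
    refine fun a => ⟨⟨!![1, a; 0, 1], by simp [Matrix.det_fin_two]⟩, fun z => ?_⟩
    rcases z with _ | c
    · exact ⟨none, hτo a, 1, one_ne_zero, funext (Fin.forall_fin_two.mpr
        ⟨by simp [ProjLine.vt, Matrix.mulVec, dotProduct],
          by simp [ProjLine.vt, Matrix.mulVec, dotProduct]⟩)⟩
    · refine ⟨some (a + c), ?_, 1, one_ne_zero, funext (Fin.forall_fin_two.mpr
        ⟨by simp [ProjLine.vt, Matrix.mulVec, dotProduct, add_comm],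
          by simp [ProjLine.vt, Matrix.mulVec, dotProduct]⟩)⟩
      simp only [pt, Option.elim, hτadd, mul_smul]
  -- dilations
  have hPd : ∀ d : G, d • o = o → d • b = b → ∃ M, ProjLine.Rel pt d M := by
    intro d hdo hdb
    obtain ⟨s, hs0, hs⟩ := hdil d hdo hdb
    obtain ⟨r, hr⟩ := FiniteField.isSquare_of_char_two hchar s
    have hr0 : r ≠ 0 := fun e => hs0 (by rw [hr, e, zero_mul])
    refine ⟨⟨!![r, 0; 0, r⁻¹], by simp [Matrix.det_fin_two, hr0]⟩, fun z => ?_⟩
    rcases z with _ | c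
    · exact ⟨none, hdo, r, hr0, funext (Fin.forall_fin_two.mpr
        ⟨by simp [ProjLine.vt, Matrix.mulVec, dotProduct],
          by simp [ProjLine.vt, Matrix.mulVec, dotProduct]⟩)⟩
    · refine ⟨some (s * c), hpd d hdb s hs c, r⁻¹, inv_ne_zero hr0,
        funext (Fin.forall_fin_two.mpr ⟨?_, by simp [ProjLine.vt, Matrix.mulVec, dotProduct]⟩)⟩
      simp [ProjLine.vt, Matrix.mulVec, dotProduct, hr, hr0, ← mul_assoc]
  -- the inversion
  obtain ⟨w, hw, hwo, hwb, hw1⟩ : ∃ w : G, orderOf w = 2 ∧ w • o = b ∧ w • b = o ∧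
      w • pt (some 1) = pt (some 1) := h.exists_swap_fixing hb (hpo 1) hb1
  have hwinv : ∀ c : F, c ≠ 0 → w • pt (some c) = pt (some c⁻¹) := by
    intro c hc
    obtain ⟨d, ⟨hdo, hdb⟩, hd⟩ := hdil' c hc
    have hdo' : d⁻¹ • o = o := inv_smul_eq_iff.mpr hdo.symm
    have hdb' : d⁻¹ • b = b := inv_smul_eq_iff.mpr hdb.symm
    obtain ⟨s, -, hs⟩ := hdil d⁻¹ hdo' hdb'
    have e1 : d • pt (some 1) = pt (some c) := by rw [hpd d hdb c hd, mul_one]
    have hsc : s * c = 1 := by
      have e2 := hpd d⁻¹ hdb' s hs c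
      rw [← e1, inv_smul_smul] at e2
      exact (Option.some.inj (hinj e2)).symm
    have hinvd := h.inverts hb.symm hw hwo hdo hdb
    rw [← e1, smul_smul, show w * d = (w * d * w⁻¹) * w by simp, hinvd, mul_smul, hw1,
      hpd d⁻¹ hdb' s hs, mul_one, eq_inv_of_mul_eq_one_left hsc]
  have hPw : ∃ M, ProjLine.Rel pt w M := by
    refine ⟨⟨!![0, 1; 1, 0], ?_⟩, fun z => ?_⟩
    · rw [Matrix.det_fin_two_of]
      linear_combination -(h2 1)
    rcases z with _ | c
    · exact ⟨some 0, hwo.trans hp0.symm, 1, one_ne_zero, funext (Fin.forall_fin_two.mpr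
        ⟨by simp [ProjLine.vt, Matrix.mulVec, dotProduct],
          by simp [ProjLine.vt, Matrix.mulVec, dotProduct]⟩)⟩
    · rcases eq_or_ne c 0 with rfl | hc
      · exact ⟨none, by rw [hp0]; exact hwb, 1, one_ne_zero, funext (Fin.forall_fin_two.mpr
          ⟨by simp [ProjLine.vt, Matrix.mulVec, dotProduct],
            by simp [ProjLine.vt, Matrix.mulVec, dotProduct]⟩)⟩
      · exact ⟨some c⁻¹, hwinv c hc, c, hc, funext (Fin.forall_fin_two.mpr
          ⟨by simp [ProjLine.vt, Matrix.mulVec, dotProduct, hc],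
            by simp [ProjLine.vt, Matrix.mulVec, dotProduct]⟩)⟩
  have hPfix : ∀ g : G, g • o = o → ∃ M, ProjLine.Rel pt g M := by
    intro g hg
    obtain ⟨d, k, rfl, hd, hk, hko⟩ := h.exists_factor hb.symm hg
    obtain ⟨M, hM⟩ := hPd d hd.1 hd.2
    have hkT : k ∈ (T : Subgroup G) := by
      rcases eq_or_ne k 1 with rfl | hk1
      · exact Subgroup.one_mem _
      · exact (h.invol_fix_base (Invol.orderOf_eq_two hk1 hk)).mp hko
    obtain ⟨a, rfl⟩ := hτsurj k hkT
    obtain ⟨M', hM'⟩ := hPτ a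
    exact ⟨_, hM.mul hM'⟩
  have hex : ∀ g : G, ∃ M, ProjLine.Rel pt g M := by
    intro g
    obtain ⟨z, hz⟩ := hsurj (g • o)
    rcases z with _ | a
    · exact hPfix g hz.symm
    · have hz' : g • o = τ a • b := hz.symm
      obtain ⟨M, hM⟩ := hPw
      obtain ⟨M₁, hM₁⟩ := hPτ a
      obtain ⟨M', hM'⟩ := hPfix ((τ a * w)⁻¹ * g) (by
        rw [mul_smul, hz', inv_smul_eq_iff, mul_smul, hwo])
      have hg : g = τ a * w * ((τ a * w)⁻¹ * g) := (mul_inv_cancel_left _ _).symm
      rw [hg]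
      exact ⟨_, (hM₁.mul hM).mul hM'⟩
  refine ⟨F, instF, instFin, hcard, h2, ?_⟩
  refine ProjLine.nonempty_mulEquiv h2 pt hinj hex ?_ ?_
  · intro g g1 g2 g3
    exact h.eq_one_of_three_fix (fun e => Option.some_ne_none (0 : F) (hinj e).symm)
      (fun e => Option.some_ne_none (1 : F) (hinj e).symm)
      (fun e => zero_ne_one (Option.some.inj (hinj e))) g1 g2 g3
  · intro x y z hxy hxz hyz
    exact h.triply_transitive (fun e => Option.some_ne_none (0 : F) (hinj e).symm)
      (fun e => Option.some_ne_none (1 : F) (hinj e).symm)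
      (fun e => zero_ne_one (Option.some.inj (hinj e)))
      (fun e => hxy (hinj e)) (fun e => hxz (hinj e)) (fun e => hyz (hinj e))

end ElemCent

end CfsgLib.SEmb
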